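import Groth.Prelude.Def_W4c5adicflatcomplDec
import Mathlib

/-!
# Decaying functions: adic sums, completeness, completion of finitely supported functions
-/

open W4c5adicflatcompl

universe u v w w'

namespace Groth.Agent.AdicFreeLib

variable {A : Type u} [CommRing A] {I : Ideal A} {Z : Type v}
variable {M : Type w} [AddCommGroup M] [Module A M] {X : Type w'} [AddCommGroup X] [Module A X]

lemma mem_decaying_of_forall {f g : Z → M}
    (h : ∀ n : ℕ, ∀ z, f z ∈ (I ^ n • ⊤ : Submodule A M) → g z ∈ (I ^ n • ⊤ : Submodule A M))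
    (hf : f ∈ decaying I Z M) : g ∈ decaying I Z M :=
  fun n => (hf n).subset fun z hz hz' => hz (h n z hz')

lemma pow_smul_antitone {m n : ℕ} (h : m ≤ n) : (I ^ n • ⊤ : Submodule A M) ≤ I ^ m • ⊤ :=
  Submodule.smul_mono_left (Ideal.pow_le_pow_right h)

lemma map_pow_smul (φ : X →ₗ[A] M) {n : ℕ} {x : X} (hx : x ∈ (I ^ n • ⊤ : Submodule A X)) :
    φ x ∈ (I ^ n • ⊤ : Submodule A M) := by
  have h := Submodule.mem_map_of_mem (f := φ) hx
  rw [Submodule.map_smul''] at h
  exact Submodule.smul_mono le_rfl le_top h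

lemma exists_finset (f : decaying I Z M) (n : ℕ) :
    ∃ S : Finset Z, ∀ z, z ∉ S → (f : Z → M) z ∈ (I ^ n • ⊤ : Submodule A M) :=
  ⟨(f.2 n).toFinset, fun z hz => by simpa using hz⟩

/-- Writing elements of `I ^ (n + j) M` with a fixed set of generators of `I ^ n`. -/
lemma exists_split (hI : I.FG) (n : ℕ) : ∃ (r : ℕ) (a : Fin r → A), (∀ i, a i ∈ I ^ n) ∧
    ∀ (j : ℕ), ∀ y ∈ (I ^ (n + j) • ⊤ : Submodule A M),
      ∃ g : Fin r → M, (∀ i, g i ∈ (I ^ j • ⊤ : Submodule A M)) ∧ ∑ i, a i • g i = y := by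
  obtain ⟨r, a, ha⟩ := Submodule.fg_iff_exists_fin_generating_family.1 (hI.pow (n := n))
  refine ⟨r, a, fun i => ha ▸ Submodule.subset_span ⟨i, rfl⟩, fun j y hy => ?_⟩
  rw [pow_add, Submodule.mul_smul] at hy
  induction hy using Submodule.smul_induction_on' with
  | smul b hb w hw =>
    rw [← ha, Submodule.mem_span_range_iff_exists_fun] at hb
    obtain ⟨c, rfl⟩ := hb
    exact ⟨fun i => c i • w, fun i => Submodule.smul_mem _ _ hw, by
      simp only [Finset.sum_smul, smul_eq_mul, mul_smul]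
      exact Finset.sum_congr rfl fun i _ => smul_comm _ _ _⟩
  | add b _ c _ hb hc =>
    obtain ⟨u, hu, rfl⟩ := hb
    obtain ⟨v, hv, rfl⟩ := hc
    exact ⟨u + v, fun i => add_mem (hu i) (hv i), by simp [smul_add, Finset.sum_add_distrib]⟩

/-- `I ^ n` times the decaying functions = decaying functions with values in `I ^ n M`. -/
theorem mem_pow_smul_iff [IsHausdorff I M] (hI : I.FG) {n : ℕ} {f : decaying I Z M} :
    f ∈ (I ^ n • ⊤ : Submodule A (decaying I Z M)) ↔
      ∀ z, (f : Z → M) z ∈ (I ^ n • ⊤ : Submodule A M) := by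
  classical
  refine ⟨fun hf z => map_pow_smul (LinearMap.proj z ∘ₗ (decaying I Z M).subtype) hf, fun hf => ?_⟩
  obtain ⟨r, a, ha, hsplit⟩ := exists_split (M := M) hI n
  have hne : ∀ z, (f : Z → M) z ≠ 0 → ∃ k, (f : Z → M) z ∉ (I ^ k • ⊤ : Submodule A M) := by
    intro z hz
    by_contra h
    push Not at h
    exact hz (IsHausdorff.haus ‹IsHausdorff I M› _ fun k => SModEq.zero.2 (h k))
  have hg : ∀ z, ∃ g : Fin r → M, (∑ i, a i • g i = (f : Z → M) z) ∧
      ∀ m, (f : Z → M) z ∈ (I ^ (n + m) • ⊤ : Submodule A M) → ∀ i, g i ∈ (I ^ m • ⊤ : Submodule A M) := by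
    intro z
    by_cases hz : (f : Z → M) z = 0
    · exact ⟨0, by simp [hz], fun m _ i => zero_mem _⟩
    · let k := Nat.find (hne z hz)
      have hk : (f : Z → M) z ∉ (I ^ k • ⊤ : Submodule A M) := Nat.find_spec (hne z hz)
      have hnk : n < k := lt_of_not_ge fun h => hk (pow_smul_antitone h (hf z))
      have hk1 : (f : Z → M) z ∈ (I ^ (n + (k - 1 - n)) • ⊤ : Submodule A M) := by
        rw [Nat.add_sub_cancel' (by omega)]
        exact not_not.1 (Nat.find_min (hne z hz) (show k - 1 < k by omega))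
      obtain ⟨g, hg, hgs⟩ := hsplit _ _ hk1
      refine ⟨g, hgs, fun m hm i => pow_smul_antitone ?_ (hg i)⟩
      have : n + m < k := lt_of_not_ge fun h => hk (pow_smul_antitone h hm)
      omega
  choose g hgs hgm using hg
  have hgd : ∀ i, (fun z => g z i) ∈ decaying I Z M := fun i m =>
    (f.2 (n + m)).subset fun z hz hz' => hz (hgm z m hz' i)
  have : f = ∑ i, a i • (⟨fun z => g z i, hgd i⟩ : decaying I Z M) := by
    ext z
    rw [Submodule.coe_sum, Finset.sum_apply]
    exact (hgs z).symm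
  rw [this]
  exact Submodule.sum_mem _ fun i _ => Submodule.smul_mem_smul (ha i) Submodule.mem_top

theorem isHausdorff_decaying [IsHausdorff I M] : IsHausdorff I (decaying I Z M) := by
  refine ⟨fun f hf => ?_⟩
  ext z
  exact IsHausdorff.haus ‹IsHausdorff I M› _ fun n =>
    SModEq.zero.2 (map_pow_smul (LinearMap.proj z ∘ₗ (decaying I Z M).subtype) (SModEq.zero.1 (hf n)))

/-- Decaying functions with values in a complete module form a complete module. -/
theorem isAdicComplete_decaying [IsAdicComplete I M] (hI : I.FG) : IsAdicComplete I (decaying I Z M) := by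
  have := isHausdorff_decaying (A := A) (I := I) (Z := Z) (M := M)
  refine { haus' := this.haus', prec' := fun f hf => ?_ }
  have hz : ∀ z, ∀ {m n : ℕ}, m ≤ n → ((f m : decaying I Z M) : Z → M) z ≡ ((f n : decaying I Z M) : Z → M) z
      [SMOD (I ^ m • ⊤ : Submodule A M)] := fun z m n h =>
    SModEq.sub_mem.2 (map_pow_smul (LinearMap.proj z ∘ₗ (decaying I Z M).subtype) (SModEq.sub_mem.1 (hf h)))
  choose L hL using fun z => IsPrecomplete.prec (inferInstance : IsPrecomplete I M) (hz z)
  have hLd : L ∈ decaying I Z M := fun n => ((f n).2 n).subset fun z hzn hzn' => hzn (by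
    have := sub_mem hzn' (SModEq.sub_mem.1 (hL z n))
    rwa [sub_sub_cancel] at this)
  exact ⟨⟨L, hLd⟩, fun n => SModEq.sub_mem.2 ((mem_pow_smul_iff hI).2 fun z => SModEq.sub_mem.1 (hL z n))⟩

/-- `f` has `I`-adic sum `m`. -/
def IsSum (I : Ideal A) (f : Z → M) (m : M) : Prop :=
  ∀ n : ℕ, ∃ S : Finset Z, (∀ z, z ∉ S → f z ∈ (I ^ n • ⊤ : Submodule A M)) ∧
    m - (∑ z ∈ S, f z) ∈ (I ^ n • ⊤ : Submodule A M)

lemma IsSum.mem_decaying {f : Z → M} {m : M} (h : IsSum I f m) : f ∈ decaying I Z M := fun n => by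
  obtain ⟨S, hS, -⟩ := h n
  exact S.finite_toSet.subset fun z hz => by_contra fun hzS => hz (hS z hzS)

lemma IsSum.sub_mem {f : Z → M} {m : M} (h : IsSum I f m) {n : ℕ} {S : Finset Z}
    (hS : ∀ z, z ∉ S → f z ∈ (I ^ n • ⊤ : Submodule A M)) :
    m - (∑ z ∈ S, f z) ∈ (I ^ n • ⊤ : Submodule A M) := by
  classical
  obtain ⟨T, hT, hTm⟩ := h n
  have e1 : ∑ z ∈ S ∪ T, f z - ∑ z ∈ S, f z ∈ (I ^ n • ⊤ : Submodule A M) := by
    rw [← Finset.sum_sdiff (Finset.subset_union_left (s₁ := S) (s₂ := T)), add_sub_cancel_right]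
    exact Submodule.sum_mem _ fun z hz => hS z (Finset.mem_sdiff.1 hz).2
  have e2 : ∑ z ∈ S ∪ T, f z - ∑ z ∈ T, f z ∈ (I ^ n • ⊤ : Submodule A M) := by
    rw [← Finset.sum_sdiff (Finset.subset_union_right (s₁ := S) (s₂ := T)), add_sub_cancel_right]
    exact Submodule.sum_mem _ fun z hz => hT z (Finset.mem_sdiff.1 hz).2
  have := add_mem (_root_.sub_mem hTm e2) e1
  convert this using 1
  abel

lemma IsSum.unique [IsHausdorff I M] {f : Z → M} {m m' : M} (h : IsSum I f m) (h' : IsSum I f m') : m = m' := by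
  refine sub_eq_zero.1 (IsHausdorff.haus ‹IsHausdorff I M› _ fun n => SModEq.zero.2 ?_)
  obtain ⟨S, hS, hSm⟩ := h n
  have := _root_.sub_mem hSm (h'.sub_mem hS)
  rwa [sub_sub_sub_cancel_right] at this

lemma IsSum.add {f g : Z → M} {m m' : M} (h : IsSum I f m) (h' : IsSum I g m') : IsSum I (f + g) (m + m') := by
  classical
  intro n
  obtain ⟨S, hS, -⟩ := h n
  obtain ⟨T, hT, -⟩ := h' n
  have hS' : ∀ z, z ∉ S ∪ T → f z ∈ (I ^ n • ⊤ : Submodule A M) := fun z hz =>
    hS z fun hz' => hz (Finset.mem_union_left _ hz')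
  have hT' : ∀ z, z ∉ S ∪ T → g z ∈ (I ^ n • ⊤ : Submodule A M) := fun z hz =>
    hT z fun hz' => hz (Finset.mem_union_right _ hz')
  refine ⟨S ∪ T, fun z hz => add_mem (hS' z hz) (hT' z hz), ?_⟩
  simp only [Pi.add_apply, Finset.sum_add_distrib, add_sub_add_comm]
  exact add_mem (h.sub_mem hS') (h'.sub_mem hT')

lemma IsSum.smul {f : Z → M} {m : M} (h : IsSum I f m) (c : A) : IsSum I (c • f) (c • m) := fun n => by
  obtain ⟨S, hS, hSm⟩ := h n
  refine ⟨S, fun z hz => Submodule.smul_mem _ c (hS z hz), ?_⟩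
  simp only [Pi.smul_apply, ← Finset.smul_sum, ← smul_sub]
  exact Submodule.smul_mem _ c hSm

theorem exists_isSum [IsPrecomplete I M] {f : Z → M} (hf : f ∈ decaying I Z M) : ∃ m, IsSum I f m := by
  classical
  let F : ℕ → Finset Z := fun n => (Finset.range (n + 1)).biUnion fun k => (hf k).toFinset
  have hF : ∀ n z, z ∉ F n → f z ∈ (I ^ n • ⊤ : Submodule A M) := fun n z hz => by
    by_contra h
    exact hz (Finset.mem_biUnion.2 ⟨n, Finset.self_mem_range_succ n, (hf n).mem_toFinset.2 h⟩)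
  have hc : ∀ {m n : ℕ}, m ≤ n → (∑ z ∈ F m, f z) ≡ (∑ z ∈ F n, f z) [SMOD (I ^ m • ⊤ : Submodule A M)] := by
    intro m n h
    have hsub : F m ⊆ F n := Finset.biUnion_subset_biUnion_of_subset_left _ (Finset.range_mono (by omega))
    rw [SModEq.sub_mem, ← neg_mem_iff, neg_sub, ← Finset.sum_sdiff hsub, add_sub_cancel_right]
    exact Submodule.sum_mem _ fun z hz => hF m z (Finset.mem_sdiff.1 hz).2
  obtain ⟨L, hL⟩ := IsPrecomplete.prec ‹IsPrecomplete I M› hc
  refine ⟨L, fun n => ⟨F n, hF n, ?_⟩⟩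
  rw [← neg_mem_iff, neg_sub]
  exact SModEq.sub_mem.1 (hL n)

section tsum

variable [IsAdicComplete I M]

/-- The `I`-adic sum of a decaying function. -/
noncomputable def tsum : decaying I Z M →ₗ[A] M where
  toFun f := (exists_isSum f.2).choose
  map_add' f g :=
    (exists_isSum (f + g).2).choose_spec.unique ((exists_isSum f.2).choose_spec.add (exists_isSum g.2).choose_spec)
  map_smul' c f :=
    (exists_isSum (c • f).2).choose_spec.unique ((exists_isSum f.2).choose_spec.smul c)

theorem isSum_tsum (f : decaying I Z M) : IsSum I (f : Z → M) (tsum f) := (exists_isSum f.2).choose_spec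

theorem tsum_eq {f : decaying I Z M} {m : M} (h : IsSum I (f : Z → M) m) : tsum f = m := (isSum_tsum f).unique h

end tsum

/-- A family of linear maps acts on decaying functions. -/
def mapPi (ρ : Z → X →ₗ[A] M) : decaying I Z X →ₗ[A] decaying I Z M where
  toFun g := ⟨fun z => ρ z ((g : Z → X) z), fun n => (g.2 n).subset fun z hz hz' => hz (map_pow_smul (ρ z) hz')⟩
  map_add' f g := Subtype.ext (funext fun z => map_add (ρ z) _ _)
  map_smul' c f := Subtype.ext (funext fun z => map_smul (ρ z) c _)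

@[simp] lemma mapPi_apply (ρ : Z → X →ₗ[A] M) (g : decaying I Z X) (z : Z) :
    ((mapPi ρ g : decaying I Z M) : Z → M) z = ρ z ((g : Z → X) z) := rfl

/-- `g ↦ Σ ρ_z (g z)`. -/
noncomputable def sumMap [IsAdicComplete I M] (ρ : Z → X →ₗ[A] M) : decaying I Z X →ₗ[A] M :=
  tsum ∘ₗ mapPi ρ

theorem sumMap_single [IsAdicComplete I M] [DecidableEq Z] (ρ : Z → X →ₗ[A] M) (z : Z) (x : X) :
    sumMap ρ (single I z x) = ρ z x := by
  refine tsum_eq fun n => ⟨{z}, fun t ht => ?_, ?_⟩
  · rw [mapPi_apply, coe_single, Pi.single_eq_of_ne (Finset.notMem_singleton.1 ht), map_zero]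
    exact zero_mem _
  · rw [Finset.sum_singleton, mapPi_apply, coe_single, Pi.single_eq_same, sub_self]
    exact zero_mem _

/-- Linear maps out of decaying functions into separated modules are determined on point masses. -/
theorem hom_ext [IsHausdorff I X] [IsHausdorff I M] [DecidableEq Z] (hI : I.FG)
    {φ ψ : decaying I Z X →ₗ[A] M} (h : ∀ z x, φ (single I z x) = ψ (single I z x)) : φ = ψ := by
  refine LinearMap.ext fun g => sub_eq_zero.1 (IsHausdorff.haus ‹IsHausdorff I M› _ fun n => SModEq.zero.2 ?_)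
  obtain ⟨S, hS⟩ := exists_finset g n
  let g' : decaying I Z X := g - ∑ z ∈ S, single I z ((g : Z → X) z)
  have hg' : g' ∈ (I ^ n • ⊤ : Submodule A (decaying I Z X)) := by
    refine (mem_pow_smul_iff hI).2 fun z => ?_
    rw [AddSubgroupClass.coe_sub, Pi.sub_apply, Submodule.coe_sum, Finset.sum_apply]
    simp only [coe_single, Pi.single_apply]
    rw [Finset.sum_ite_eq]
    split_ifs with hz
    · rw [sub_self]; exact zero_mem _
    · rw [sub_zero]; exact hS z hz
  have : φ g - ψ g = φ g' - ψ g' := by simp [g', map_sub, map_sum, h]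
  rw [this]
  exact sub_mem (map_pow_smul φ hg') (map_pow_smul ψ hg')

section completion

variable [IsAdicComplete I (AdicCompletion I M)]

theorem sub_of_mem_pow_smul (x : AdicCompletion I M) {n : ℕ} {y : M}
    (hy : Submodule.Quotient.mk y = x.val n) :
    x - AdicCompletion.of I M y ∈ (I ^ n • ⊤ : Submodule A (AdicCompletion I M)) := by
  choose c hc using fun k => Submodule.Quotient.mk_surjective _ (x.val k)
  let c' : ℕ → M := Function.update c n y
  have hc' : ∀ k, Submodule.Quotient.mk (c' k) = x.val k := fun k => by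
    by_cases h : k = n
    · subst h; simp [c', hy]
    · simp [c', Function.update_of_ne h, hc]
  have hcau : ∀ {a b : ℕ}, a ≤ b → AdicCompletion.of I M (c' a) ≡ AdicCompletion.of I M (c' b)
      [SMOD (I ^ a • ⊤ : Submodule A (AdicCompletion I M))] := by
    intro a b h
    rw [SModEq.sub_mem, ← map_sub]
    refine map_pow_smul (AdicCompletion.of I M) ((Submodule.Quotient.eq _).1 ?_)
    rw [hc', ← x.2 h, ← hc']
    rfl
  obtain ⟨L, hL⟩ := IsPrecomplete.prec (inferInstance : IsPrecomplete I (AdicCompletion I M)) hcau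
  have hLx : L = x := by
    refine AdicCompletion.ext fun k => ?_
    have h : AdicCompletion.eval I M k (AdicCompletion.of I M (c' k) - L) = 0 :=
      LinearMap.mem_ker.1 (AdicCompletion.pow_smul_top_le_ker_eval (I := I) (M := M) k (SModEq.sub_mem.1 (hL k)))
    rw [map_sub, sub_eq_zero, AdicCompletion.eval_of] at h
    rw [← hc' k]
    exact h.symm
  have := SModEq.sub_mem.1 (hL n)
  rw [hLx] at this
  simpa [c'] using neg_mem this

theorem mem_pow_smul_iff_val (x : AdicCompletion I M) (n : ℕ) :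
    x ∈ (I ^ n • ⊤ : Submodule A (AdicCompletion I M)) ↔ x.val n = 0 := by
  refine ⟨fun h => LinearMap.mem_ker.1 (AdicCompletion.pow_smul_top_le_ker_eval (I := I) (M := M) n h), fun h => ?_⟩
  simpa using sub_of_mem_pow_smul x (n := n) (y := 0) (by simpa using h.symm)

/-- Recognition: a limit of the `Z →₀ M / I ^ n M` is the module of decaying functions. -/
theorem exists_equiv_decaying {L : Type*} [AddCommGroup L] [Module A L]
    (π : ∀ n, L →ₗ[A] Z →₀ M ⧸ (I ^ n • ⊤ : Submodule A M))
    (hcomp : ∀ {m n : ℕ} (h : m ≤ n) x z, AdicCompletion.transitionMap I M h (π n x z) = π m x z)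
    (hinj : ∀ x, (∀ n, π n x = 0) → x = 0)
    (hlift : ∀ y : ∀ n, Z →₀ M ⧸ (I ^ n • ⊤ : Submodule A M),
      (∀ {m n : ℕ} (h : m ≤ n) z, AdicCompletion.transitionMap I M h (y n z) = y m z) → ∃ x, ∀ n, π n x = y n) :
    ∃ e : L ≃ₗ[A] decaying I Z (AdicCompletion I M),
      ∀ x z n, ((e x : Z → AdicCompletion I M) z).val n = π n x z := by
  let v : L → Z → AdicCompletion I M := fun x z => ⟨fun n => π n x z, fun h => hcomp h x z⟩
  have hv : ∀ x, v x ∈ decaying I Z (AdicCompletion I M) := fun x n =>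
    (π n x).support.finite_toSet.subset fun z hz => by
      rw [Finset.mem_coe, Finsupp.mem_support_iff]
      exact fun h0 => hz ((mem_pow_smul_iff_val _ _).2 h0)
  let Φ : L →ₗ[A] decaying I Z (AdicCompletion I M) :=
    { toFun := fun x => ⟨v x, hv x⟩
      map_add' := fun x y => Subtype.ext (funext fun z => AdicCompletion.ext fun n => by
        show π n (x + y) z = π n x z + π n y z
        rw [map_add, Finsupp.add_apply])
      map_smul' := fun c x => Subtype.ext (funext fun z => AdicCompletion.ext fun n => by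
        show π n (c • x) z = c • π n x z
        rw [map_smul, Finsupp.smul_apply]) }
  have hΦ : Function.Bijective Φ := by
    constructor
    · rw [injective_iff_map_eq_zero]
      intro x hx
      refine hinj x fun n => Finsupp.ext fun z => ?_
      exact congrArg (fun f : decaying I Z (AdicCompletion I M) => ((f : Z → AdicCompletion I M) z).val n) hx
    · intro f
      let y : ∀ n, Z →₀ M ⧸ (I ^ n • ⊤ : Submodule A M) := fun n =>
        Finsupp.ofSupportFinite (fun z => ((f : Z → AdicCompletion I M) z).val n) ((f.2 n).subset fun z hz h => hz (by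
          exact (mem_pow_smul_iff_val _ _).1 h))
      obtain ⟨x, hx⟩ := hlift y fun h z => ((f : Z → AdicCompletion I M) z).2 h
      refine ⟨x, Subtype.ext (funext fun z => AdicCompletion.ext fun n => ?_)⟩
      show π n x z = _
      rw [hx]
      rfl
  exact ⟨LinearEquiv.ofBijective Φ hΦ, fun x z n => rfl⟩

end completion

lemma finsupp_mem_pow_smul_iff {n : ℕ} {f : Z →₀ M} :
    f ∈ (I ^ n • ⊤ : Submodule A (Z →₀ M)) ↔ ∀ z, f z ∈ (I ^ n • ⊤ : Submodule A M) := by
  refine ⟨fun h z => map_pow_smul (Finsupp.lapply z) h, fun h => ?_⟩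
  rw [← f.sum_single]
  exact Submodule.sum_mem _ fun z _ => map_pow_smul (Finsupp.lsingle z) (h z)

end Groth.Agent.AdicFreeLib
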