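import Groth.Agent.AdicFreeLib.Noeth
import Mathlib

/-!
# Bases of flat modules over rings with nilpotent maximal ideal, adic systems
-/

open W4c5adicflatcompl IsLocalRing TensorProduct

universe u v w

namespace Groth.Agent.AdicFreeLib

lemma sup_pow_smul {A : Type u} [CommRing A] {M : Type w} [AddCommGroup M] [Module A M] (m : Ideal A)
    (N : Submodule A M) (h : N ⊔ m • ⊤ = ⊤) (k : ℕ) : N ⊔ m ^ k • ⊤ = ⊤ := by
  induction k with
  | zero => simp
  | succ k ih =>
    refine top_le_iff.1 (ih.ge.trans (sup_le le_sup_left ?_))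
    conv_lhs => rw [← h, Submodule.smul_sup, ← Submodule.mul_smul, ← pow_succ]
    exact sup_le_sup_right Submodule.smul_le_right _

/-- A family independent modulo the maximal ideal in a flat module is independent. -/
lemma indep_of_flat {A : Type u} [CommRing A] {R : Type v} [CommRing R] [IsLocalRing R] [Algebra A R]
    (hs : Function.Surjective (algebraMap A R)) {M : Type w} [AddCommGroup M] [Module A M] [Module R M]
    [IsScalarTower A R M] [Module.Flat R M] (m : Ideal A) (hm : m.map (algebraMap A R) = maximalIdeal R)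
    {ι : Type*} (v : ι → M)
    (hv : ∀ c : ι →₀ A, Finsupp.linearCombination A v c ∈ (m • ⊤ : Submodule A M) → ∀ i, c i ∈ m)
    (c : ι →₀ A) (hc : Finsupp.linearCombination A v c = 0) (i : ι) : algebraMap A R (c i) = 0 := by
  classical
  have hli : LinearIndependent (ResidueField R) (TensorProduct.mk R (ResidueField R) M 1 ∘ v) := by
    rw [linearIndependent_iff']
    intro s g hg i hi
    choose r hr using fun j => residue_surjective (g j)
    choose a ha using fun j => hs (r j)
    have h1 : TensorProduct.mk R (ResidueField R) M 1 (∑ j ∈ s, r j • v j) = 0 := by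
      rw [map_sum, ← hg]
      refine Finset.sum_congr rfl fun j _ => ?_
      rw [map_smul, ← hr, Function.comp_apply, ← ResidueField.algebraMap_eq, algebraMap_smul]
    have h1 : (∑ j ∈ s, r j • v j) ∈ (maximalIdeal R • ⊤ : Submodule R M) :=
      (LinearMap.ker_tensorProductMk (R := R) (Q := M) (I := maximalIdeal R)).le (LinearMap.mem_ker.2 h1)
    have hle : ∀ x ∈ (maximalIdeal R • ⊤ : Submodule R M), x ∈ (m • ⊤ : Submodule A M) := by
      intro x hx
      induction hx using Submodule.smul_induction_on' with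
      | smul b hb w _ =>
        rw [← hm, Ideal.mem_map_iff_of_surjective _ hs] at hb
        obtain ⟨b, hb, rfl⟩ := hb
        rw [algebraMap_smul]
        exact Submodule.smul_mem_smul hb Submodule.mem_top
      | add x _ y _ hx hy => exact add_mem hx hy
    have h2 := hv (∑ j ∈ s, Finsupp.single j (a j)) (by
      refine hle _ ?_
      convert h1 using 1
      rw [map_sum]
      exact Finset.sum_congr rfl fun j _ => by rw [Finsupp.linearCombination_single, ← ha, algebraMap_smul]) i
    rw [Finsupp.finsetSum_apply] at h2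
    simp only [Finsupp.single_apply, Finset.sum_ite_eq', if_pos hi] at h2
    rw [← hr, residue_eq_zero_iff, ← ha, ← hm]
    exact Ideal.mem_map_of_mem _ h2
  have hlR : LinearIndependent R v := Module.IsLocalRing.linearIndependent_of_flat v hli
  by_cases hi : i ∈ c.support
  · refine linearIndependent_iff'.1 hlR c.support (fun j => algebraMap A R (c j)) ?_ i hi
    simpa [algebraMap_smul, Finsupp.linearCombination_apply, Finsupp.sum] using hc
  · simp [Finsupp.notMem_support_iff.1 hi]

variable {A : Type u} [CommRing A] [IsLocalRing A]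

local notation "𝔪" => maximalIdeal A

/-- A compatible system of bases of an adic system of flat modules. -/
theorem exists_bases (M : ℕ → Type w) [∀ n, AddCommGroup (M n)] [∀ n, Module A (M n)]
    [∀ n, Module (A ⧸ 𝔪 ^ (n + 1)) (M n)] [∀ n, IsScalarTower A (A ⧸ 𝔪 ^ (n + 1)) (M n)]
    [∀ n, Module.Flat (A ⧸ 𝔪 ^ (n + 1)) (M n)]
    (ψ : ∀ n, M (n + 1) →ₗ[A] M n) (hψ : ∀ n, Function.Surjective (ψ n))
    (hker : ∀ n, LinearMap.ker (ψ n) = (𝔪 ^ (n + 1) • ⊤ : Submodule A (M (n + 1)))) :
    ∃ (Z : Type w) (e : ∀ n, Z → M n), (∀ n z, ψ n (e (n + 1) z) = e n z) ∧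
      (∀ n, Function.Surjective (Finsupp.linearCombination A (e n))) ∧
      ∀ n (c : Z →₀ A), Finsupp.linearCombination A (e n) c = 0 ↔ ∀ z, c z ∈ 𝔪 ^ (n + 1) := by
  classical
  have hann : ∀ n, ∀ a ∈ 𝔪 ^ (n + 1), ∀ x : M n, a • x = 0 := fun n a ha x => by
    rw [← algebraMap_smul (A ⧸ 𝔪 ^ (n + 1)) a x, Ideal.Quotient.algebraMap_eq,
      Ideal.Quotient.eq_zero_iff_mem.2 ha, zero_smul]
  have htop : ∀ n, (𝔪 ^ (n + 1) • ⊤ : Submodule A (M n)) = ⊥ := fun n =>
    le_bot_iff.1 (Submodule.smul_le.2 fun a ha x _ => (Submodule.mem_bot A).2 (hann n a ha x))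
  obtain ⟨Z, e0, he0s, he0i⟩ : ∃ (Z : Type w) (e : Z → M 0), Submodule.span A (Set.range e) ⊔ 𝔪 • ⊤ = ⊤ ∧
      ∀ c : Z →₀ A, Finsupp.linearCombination A e c ∈ (𝔪 • ⊤ : Submodule A (M 0)) → ∀ z, c z ∈ 𝔪 := by
    haveI : (𝔪 ^ (0 + 1)).IsMaximal := by rw [zero_add, pow_one]; infer_instance
    letI := Ideal.Quotient.field (𝔪 ^ (0 + 1))
    obtain ⟨s, ⟨b⟩⟩ := Module.Free.exists_set (A ⧸ 𝔪 ^ (0 + 1)) (M 0)
    have key : ∀ c : s →₀ A, Finsupp.linearCombination A b c =
        Finsupp.linearCombination (A ⧸ 𝔪 ^ (0 + 1)) b (c.mapRange (Ideal.Quotient.mk _) (map_zero _)) := by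
      intro c
      rw [Finsupp.linearCombination_apply, Finsupp.linearCombination_apply,
        Finsupp.sum_mapRange_index (by simp)]
      exact Finsupp.sum_congr fun z _ => (algebraMap_smul (A ⧸ 𝔪 ^ (0 + 1)) _ _).symm
    refine ⟨s, b, top_le_iff.1 fun x _ => Submodule.mem_sup_left ?_, fun c hc z => ?_⟩
    · rw [Finsupp.mem_span_range_iff_exists_finsupp]
      obtain ⟨c, hc⟩ := Finsupp.mapRange_surjective _ (map_zero _) Ideal.Quotient.mk_surjective (b.repr x)
      exact ⟨c, by rw [← Finsupp.linearCombination_apply, key, hc, b.linearCombination_repr]⟩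
    · have h0 := htop 0
      rw [zero_add, pow_one] at h0
      rw [h0, Submodule.mem_bot, key, ← b.linearCombination_repr (Finsupp.linearCombination _ b _), b.repr_linearCombination] at hc
      have := DFunLike.congr_fun (b.linearIndependent (hc.trans (map_zero (Finsupp.linearCombination _ b)).symm)) z
      simpa [Ideal.Quotient.eq_zero_iff_mem] using this
  let P : ∀ n, (Z → M n) → Prop := fun n e =>
    Function.Surjective (Finsupp.linearCombination A e) ∧
      ∀ c : Z →₀ A, Finsupp.linearCombination A e c = 0 ↔ ∀ z, c z ∈ 𝔪 ^ (n + 1)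
  have mkP : ∀ n (e : Z → M n), Submodule.span A (Set.range e) ⊔ 𝔪 • ⊤ = ⊤ →
      (∀ c : Z →₀ A, Finsupp.linearCombination A e c ∈ (𝔪 • ⊤ : Submodule A (M n)) → ∀ z, c z ∈ 𝔪) → P n e := by
    intro n e hs hi
    have h := sup_pow_smul 𝔪 _ hs (n + 1)
    rw [htop, sup_bot_eq, ← Finsupp.range_linearCombination, LinearMap.range_eq_top] at h
    refine ⟨h, fun c => ⟨fun hc z => ?_, fun hc => ?_⟩⟩
    · haveI : Nontrivial (A ⧸ 𝔪 ^ (n + 1)) :=
        Ideal.Quotient.nontrivial_iff.2 fun h => (maximalIdeal.isMaximal A).ne_top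
          (top_le_iff.1 (h.ge.trans (Ideal.pow_le_self n.succ_ne_zero)))
      haveI : IsLocalRing (A ⧸ 𝔪 ^ (n + 1)) := IsLocalRing.of_surjective' _ Ideal.Quotient.mk_surjective
      have hmax : Ideal.map (algebraMap A (A ⧸ 𝔪 ^ (n + 1))) 𝔪 = maximalIdeal (A ⧸ 𝔪 ^ (n + 1)) := by
        rw [Ideal.Quotient.algebraMap_eq]
        refine eq_maximalIdeal ((Ideal.map_eq_top_or_isMaximal_of_surjective _ Ideal.Quotient.mk_surjective
          (maximalIdeal.isMaximal A)).resolve_left fun h => ?_)
        have := congrArg (Ideal.comap (Ideal.Quotient.mk (𝔪 ^ (n + 1)))) h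
        rw [Ideal.comap_map_of_surjective _ Ideal.Quotient.mk_surjective, ← RingHom.ker_eq_comap_bot, Ideal.mk_ker,
          sup_eq_left.2 (Ideal.pow_le_self n.succ_ne_zero), Ideal.comap_top] at this
        exact (maximalIdeal.isMaximal A).ne_top this
      have := indep_of_flat (R := A ⧸ 𝔪 ^ (n + 1)) Ideal.Quotient.mk_surjective 𝔪 hmax e hi c hc z
      rwa [Ideal.Quotient.algebraMap_eq, Ideal.Quotient.eq_zero_iff_mem] at this
    · rw [Finsupp.linearCombination_apply]
      exact Finset.sum_eq_zero fun z _ => hann n _ (hc z) _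
  have step : ∀ n (e : Z → M n), P n e → ∃ e' : Z → M (n + 1), (∀ z, ψ n (e' z) = e z) ∧ P (n + 1) e' := by
    intro n e he
    choose e' he' using fun z => hψ n (e z)
    have hcomb : ∀ c, ψ n (Finsupp.linearCombination A e' c) = Finsupp.linearCombination A e c := fun c => by
      simp [Finsupp.linearCombination_apply, map_finsuppSum, he']
    refine ⟨e', he', mkP (n + 1) e' (top_le_iff.1 fun x _ => ?_) fun c hc z => ?_⟩
    · obtain ⟨c, hc⟩ := he.1 (ψ n x)
      have : x - Finsupp.linearCombination A e' c ∈ LinearMap.ker (ψ n) := by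
        simp [map_sub, hcomb, hc]
      rw [hker] at this
      rw [← add_sub_cancel (Finsupp.linearCombination A e' c) x]
      refine Submodule.add_mem_sup ?_ (Submodule.smul_mono_left (Ideal.pow_le_self n.succ_ne_zero) this)
      rw [← Finsupp.range_linearCombination]
      exact ⟨c, rfl⟩
    · have h : Finsupp.linearCombination A e c ∈ (𝔪 • ⊤ : Submodule A (M n)) := by
        rw [← hcomb, ← pow_one 𝔪]
        exact map_pow_smul (ψ n) (by rwa [pow_one])
      rw [← (LinearMap.range_eq_top.2 he.1), Finsupp.range_linearCombination,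
        Submodule.mem_ideal_smul_span_iff_exists_sum] at h
      obtain ⟨d, hd, hdc⟩ := h
      have := (he.2 (c - d)).1 (by rw [map_sub, sub_eq_zero, ← hdc, Finsupp.linearCombination_apply]) z
      have h2 := add_mem (Ideal.pow_le_self n.succ_ne_zero this) (hd z)
      simpa using h2
  choose f hf hfP using step
  let e : ∀ n, {e : Z → M n // P n e} := fun n =>
    Nat.rec ⟨e0, mkP 0 e0 he0s he0i⟩ (fun k p => ⟨f k p.1 p.2, hfP k p.1 p.2⟩) n
  exact ⟨Z, fun n => (e n).1, fun n z => hf n (e n).1 (e n).2 z, fun n => (e n).2.1, fun n => (e n).2.2⟩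

end Groth.Agent.AdicFreeLib
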