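import Groth.Agent.AdicFreeLib.Basic
import Mathlib

/-!
# Decaying functions over a Noetherian complete ring: exactness and coordinates
-/

open W4c5adicflatcompl

universe u v w

namespace Groth.Agent.AdicFreeLib

variable {A : Type u} [CommRing A] [IsNoetherianRing A] {I : Ideal A} [IsAdicComplete I A] {Z : Type v}

omit [IsAdicComplete I A] in
/-- Artin–Rees: decay inside a submodule can be tested in the ambient module. -/
theorem decaying_submodule_iff {M : Type w} [AddCommGroup M] [Module A M] [Module.Finite A M]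
    (N : Submodule A M) (f : Z → N) :
    f ∈ decaying I Z N ↔ (fun z => (f z : M)) ∈ decaying I Z M := by
  refine ⟨fun h n => (h n).subset fun z hz hz' => hz (map_pow_smul N.subtype hz'), fun h n => ?_⟩
  obtain ⟨c, hc⟩ := Ideal.exists_pow_inf_eq_pow_smul I N
  refine (h (n + c)).subset fun z hz hz' => hz ?_
  rw [Submodule.mem_smul_top_iff]
  have : (f z : M) ∈ (I ^ (n + c) • ⊤ ⊓ N : Submodule A M) := ⟨hz', (f z).2⟩
  rw [hc (n + c) (by omega), Nat.add_sub_cancel] at this
  exact Submodule.smul_mono le_rfl inf_le_right this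

/-- Lift decaying functions along surjections of finite modules. -/
theorem exists_lift {M : Type w} [AddCommGroup M] [Module A M] [Module.Finite A M]
    {M'' : Type*} [AddCommGroup M''] [Module A M''] (φ : M →ₗ[A] M'') (hφ : Function.Surjective φ)
    {g : Z → M''} (hg : g ∈ decaying I Z M'') :
    ∃ f : Z → M, f ∈ decaying I Z M ∧ ∀ z, φ (f z) = g z := by
  classical
  haveI : Module.Finite A M'' := Module.Finite.of_surjective φ hφ
  haveI : IsHausdorff I M'' := IsHausdorff.of_le_jacobson I M'' (IsAdicComplete.le_jacobson_bot I)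
  have hsub : ∀ n, ∀ y ∈ (I ^ n • ⊤ : Submodule A M''), ∃ x ∈ (I ^ n • ⊤ : Submodule A M), φ x = y := by
    intro n y hy
    rwa [← LinearMap.range_eq_top.2 hφ, LinearMap.range_eq_map, ← Submodule.map_smul'', Submodule.mem_map] at hy
  have hex : ∀ z, ∃ x : M, φ x = g z ∧
      ∀ n, g z ∈ (I ^ n • ⊤ : Submodule A M'') → x ∈ (I ^ n • ⊤ : Submodule A M) := by
    intro z
    by_cases hz : g z = 0
    · exact ⟨0, by simp [hz], fun n _ => zero_mem _⟩
    · have hne : ∃ k, g z ∉ (I ^ k • ⊤ : Submodule A M'') := by
        by_contra h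
        push Not at h
        exact hz (IsHausdorff.haus ‹IsHausdorff I M''› _ fun k => SModEq.zero.2 (h k))
      have hk0 : Nat.find hne ≠ 0 := fun h => Nat.find_spec hne (by rw [h]; simp)
      obtain ⟨x, hx, hxy⟩ := hsub (Nat.find hne - 1) (g z) (not_not.1 (Nat.find_min hne (by omega)))
      refine ⟨x, hxy, fun n hn => pow_smul_antitone ?_ hx⟩
      have : n < Nat.find hne := lt_of_not_ge fun h => Nat.find_spec hne (pow_smul_antitone h hn)
      omega
  choose x hx hxn using hex
  exact ⟨x, fun n => (hg n).subset fun z hz hz' => hz (hxn z n hz'), hx⟩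

omit [IsNoetherianRing A] [IsAdicComplete I A] in
lemma pi_decaying {ι : Type*} [Fintype ι] (f : ι → decaying I Z A) :
    (fun z i => (f i : Z → A) z) ∈ decaying I Z (ι → A) := by
  classical
  intro n
  refine (Set.finite_iUnion fun i => (f i).2 n).subset fun z hz => ?_
  by_contra h
  simp only [Set.mem_iUnion, Set.mem_ofPred_eq, not_exists, not_not] at h
  refine hz ?_
  show (fun i => (f i : Z → A) z) ∈ (I ^ n • ⊤ : Submodule A (ι → A))
  rw [pi_eq_sum_univ (fun i => (f i : Z → A) z)]
  exact Submodule.sum_mem _ fun i _ => Submodule.smul_mem_smul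
    (by have := h i; rwa [smul_eq_mul, Ideal.mul_top] at this) Submodule.mem_top

/-- Decaying functions with values in a submodule of `A^ι` are combinations, with decaying
coefficients, of finitely many elements of the submodule. -/
theorem exists_coords {ι : Type*} [Fintype ι] (N : Submodule A (ι → A)) (f : ι → decaying I Z A)
    (hf : ∀ z, (fun i => (f i : Z → A) z) ∈ N) :
    ∃ (s : ℕ) (k : Fin s → ι → A) (c : Fin s → decaying I Z A),
      (∀ j, k j ∈ N) ∧ ∀ i, f i = ∑ j, k j i • c j := by
  classical
  obtain ⟨s, π, hπ⟩ := Module.Finite.exists_fin' A N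
  have hF : (fun z => (⟨_, hf z⟩ : N)) ∈ decaying I Z N :=
    (decaying_submodule_iff N _).2 (pi_decaying f)
  obtain ⟨h, hh, hhπ⟩ := exists_lift π hπ hF
  refine ⟨s, fun j => (π (Pi.single j 1) : ι → A),
    fun j => ⟨fun z => h z j, fun n => (hh n).subset fun z hz hz' =>
      hz (map_pow_smul (LinearMap.proj (φ := fun _ => A) j) hz')⟩, fun j => (π _).2, fun i => ?_⟩
  · ext z
    have e : (π (h z) : ι → A) = fun i => (f i : Z → A) z := congrArg Subtype.val (hhπ z)
    rw [pi_eq_sum_univ (h z)] at e
    have e' := (congrFun e i).symm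
    simp only [map_sum, map_smul, Submodule.coe_sum, Submodule.coe_smul, Finset.sum_apply, Pi.smul_apply, smul_eq_mul] at e' ⊢
    rw [e']
    refine Finset.sum_congr rfl fun j _ => ?_
    rw [show (fun t => if j = t then (1 : A) else 0) = Pi.single j 1 from funext fun t => by simp [Pi.single_apply, eq_comm]]
    exact mul_comm _ _

end Groth.Agent.AdicFreeLib
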